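import Cfsg.Agent.H0.OCo3.D
set_option maxRecDepth 100000
set_option Elab.async false
set_option linter.unusedSectionVars false
namespace H0.OCo3
open H0 BN 
theorem defs_ok : DefsOK R.p defs 16 := defsOK_of_chk c50
universe u
variable {G : Type u} [Group G] [Finite G] (m0 : Model G) (h0 : m0.R = H6M.MCo3.R)
noncomputable def m : Model G := m0.ext (lg := nat_lit 9) (N := nat_lit 512) (l := H6M.MCo3.nl) h0 nl nl_ok 16 rfl defs defs_ok (by decide +kernel)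
theorem mR : (m m0 h0).R = R := rfl
variable (hb : m0.pst [108, 4, 3, 2, 1, 0] = ⊥) (hc : Nat.card G = 495766656000)
include h0 hb hc
theorem base : (m m0 h0).pst [108, 4, 3, 2, 1, 0] = ⊥ := hb
omit hb hc in
theorem xch_ok : (m m0 h0).ChainOK xch [] := ((m m0 h0).chain_cons [0, 1, 0, 1, 0, 1, 0, 1, 0, 1, 0, 1, 0, 1, 1] (Model.via _ (mR m0 h0) (fun R => Model.fixP R [] [[19], [20]]) c10) (Model.via _ (mR m0 h0) (fun R => Model.growP R [[19], [20]] [0, 1, 0, 1, 0, 1, 0, 1, 0, 1, 0, 1, 0, 1, 1] 203 276) c11) ((m m0 h0).chain_cons [0, 1, 0, 1, 0, 1, 0, 1, 0, 1, 0, 1, 0, 1] (Model.via _ (mR m0 h0) (fun R => Model.fixP R [203] [[21], [22]]) c8) (Model.via _ (mR m0 h0) (fun R => Model.growP R [[21], [22]] [0, 1, 0, 1, 0, 1, 0, 1, 0, 1, 0, 1, 0, 1] 217 275) c9) ((m m0 h0).chain_cons [0, 1, 0, 1, 0, 1, 0, 1, 0, 1, 0, 0, 1, 0, 1] (Model.via _ (mR m0 h0) (fun R => Model.fixP R [217, 203] [[23], [24]]) c6)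 (Model.via _ (mR m0 h0) (fun R => Model.growP R [[23], [24]] [0, 1, 0, 1, 0, 1, 0, 1, 0, 1, 0, 0, 1, 0, 1] 274 162) c7) ((m m0 h0).chain_cons [0, 0, 1, 0, 1, 0, 1, 0, 1, 0] (Model.via _ (mR m0 h0) (fun R => Model.fixP R [274, 217, 203] [[25], [26]]) c4) (Model.via _ (mR m0 h0) (fun R => Model.growP R [[25], [26]] [0, 0, 1, 0, 1, 0, 1, 0, 1, 0] 259 56) c5) ((m m0 h0).chain_cons [1, 0, 1, 0, 1, 0, 1, 0, 1, 0, 1] (Model.via _ (mR m0 h0) (fun R => Model.fixP R [259, 274, 217, 203] [[27], [28]]) c2) (Model.via _ (mR m0 h0) (fun R => Model.growP R [[27], [28]] [1, 0, 1, 0, 1, 0, 1, 0, 1, 0, 1] 99 36) c3) ((m m0 h0).chain_cons [0, 1, 0, 1, 0, 1] (Model.via _ (mR m0 h0) (fun R => Model.fixP R [99, 259, 274, 217, 203] [[29], [30]]) c0) (Model.via _ (mR m0 h0) (fun R => Model.growP R [[29], [30]] [0, 1, 0, 1, 0, 1] 80 20) c1) ((m m0 h0).chain_nil _)))))))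
theorem xtop : gen (m m0 h0).g (Model.cgens xch) = ⊤ := (m m0 h0).chain_top (xch_ok m0 h0) (hc.trans (by decide +kernel))
theorem xbdd : (m m0 h0).Bdd := (m m0 h0).bdd_of_top (xtop m0 h0 hb hc)
theorem xot : (m m0 h0).OTOK xOT := ((m m0 h0).otok_cons (xch_ok m0 h0) (hc.trans (by decide +kernel)) 2 rfl (Model.via _ (mR m0 h0) (fun R => Model.invB R (Model.cgens (xch.drop 2)) xO0) c18) ((m m0 h0).otok_cons (xch_ok m0 h0) (hc.trans (by decide +kernel)) 2 rfl (Model.via _ (mR m0 h0) (fun R => Model.invB R (Model.cgens (xch.drop 2)) xO1) c17) ((m m0 h0).otok_cons (xch_ok m0 h0) (hc.trans (by decide +kernel)) 0 rfl (Model.via _ (mR m0 h0) (fun R => Model.invB R (Model.cgens (xch.drop 0)) xO2) c16) (m m0 h0).otok_nil)))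
theorem xcm : ∀ w ∈ xCg, (m m0 h0).Cm [[16]] (ev (m m0 h0).g w) := (m m0 h0).cm_of_pairs (all_take_done (all_take_step (all_take_zero _ (xCg.flatMap fun w => [[16]].map fun y => (w ++ y, y ++ w))) ((m m0 h0).pairs_of (base m0 h0 hb hc) (Model.via _ (mR m0 h0) (fun R => pairsB R [108, 4, 3, 2, 1, 0] (((xCg.flatMap fun w => [[16]].map fun y => (w ++ y, y ++ w)).drop 0).take 1)) c19))) (by decide +kernel))
theorem xn1 : (m m0 h0).Sol [[16]] xCg [80, 99, 259, 274, 217, 203] [80, 99, 259, 274, 217, 203] := (m m0 h0).sol_done [0, 1, 2, 3, 4, 5] (((m m0 h0).chain_bot (xch_ok m0 h0) (hc.trans (by decide +kernel))).le.trans bot_le) (by decide +kernel)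
theorem xn0 : (m m0 h0).Sol [[16]] xCg [] [] := (m m0 h0).sol_free (xbdd m0 h0 hb hc) (xcm m0 h0 hb hc) (xot m0 h0 hb hc) ((m m0 h0).excl_zero _ _) (Model.via _ (mR m0 h0) (fun R => freeB R xOT [[16]] xCg [] [] [] [] 203 0 [([], 203, 2)] [[0]] [0, 0, 0, 0, 0, 0, 0, 0, 0, 0, 0, 0, 0, 0, 0, 0, 0, 0, 0, 0, 0, 0] xc15) c15) ((m m0 h0).solL_leaves (xot m0 h0 hb hc) [0] (Bc := [80, 99, 259, 274, 217, 203]) (Model.via _ (mR m0 h0) (fun R => cycB R (subst [[16]] [0]) [80, 99, 259, 274, 217, 203]) c12) (Model.via _ (mR m0 h0) (fun R => allL (leafB R xOT (subst [[16]] [0]) [0, 1, 2, 3, 4, 5] [80, 99, 259, 274, 217, 203] [] []) xL14) c14) ((m m0 h0).solL_cons ((m m0 h0).sol_cyc [0] (Bc := [80, 99, 259, 274, 217, 203]) (T := [80, 99, 259, 274, 217, 203]) rfl (Model.via _ (mR m0 h0) (fun R => cycB R (subst [[16]] [0]) [80, 99, 259, 274, 217, 203]) c12) (Model.via _ (mR m0 h0) (fun R => cycB R (subst [[16]]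 [0]) [80, 99, 259, 274, 217, 203]) c13) (xn1 m0 h0 hb hc)) (m m0 h0).solL_nil))
theorem xsol : (m m0 h0).Sol [[16]] xCg [] [] := xn0 m0 h0 hb hc
omit hb hc in
theorem ych_ok : (m m0 h0).ChainOK ych [] := ((m m0 h0).chain_cons [0, 1, 0, 1, 0, 1, 0, 1, 0, 1, 0, 1, 0, 0, 0] (Model.via _ (mR m0 h0) (fun R => Model.fixP R [] [[19], [20]]) c32) (Model.via _ (mR m0 h0) (fun R => Model.growP R [[19], [20]] [0, 1, 0, 1, 0, 1, 0, 1, 0, 1, 0, 1, 0, 0, 0] 147 276) c33) ((m m0 h0).chain_cons [0, 1, 0, 1, 0, 1, 0, 1, 0, 1, 0, 1, 0, 1, 0] (Model.via _ (mR m0 h0) (fun R => Model.fixP R [147] [[31], [32]]) c30) (Model.via _ (mR m0 h0) (fun R => Model.growP R [[31], [32]] [0, 1, 0, 1, 0, 1, 0, 1, 0, 1, 0, 1, 0, 1, 0] 96 275) c31) ((m m0 h0).chain_cons [0, 1, 0, 1, 0, 1, 0, 1, 0, 1, 0, 1] (Model.via _ (mR m0 h0) (fun R => Model.fixP R [96, 147] [[33], [34]]) c28) (Model.via _ (mR m0 h0) (fun R => Model.growP R [[33],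 [34]] [0, 1, 0, 1, 0, 1, 0, 1, 0, 1, 0, 1] 240 112) c29) ((m m0 h0).chain_cons [0, 1, 0, 1, 0, 0, 1, 1, 0] (Model.via _ (mR m0 h0) (fun R => Model.fixP R [240, 96, 147] [[35], [36]]) c26) (Model.via _ (mR m0 h0) (fun R => Model.growP R [[35], [36]] [0, 1, 0, 1, 0, 0, 1, 1, 0] 151 30) c27) ((m m0 h0).chain_cons [0, 1, 0, 1, 0, 0, 1, 0, 0] (Model.via _ (mR m0 h0) (fun R => Model.fixP R [151, 240, 96, 147] [[37], [38]]) c24) (Model.via _ (mR m0 h0) (fun R => Model.growP R [[37], [38]] [0, 1, 0, 1, 0, 0, 1, 0, 0] 254 27) c25) ((m m0 h0).chain_cons [0, 0, 1, 0, 1] (Model.via _ (mR m0 h0) (fun R => Model.fixP R [254, 151, 240, 96, 147] [[39], [40]]) c22) (Model.via _ (mR m0 h0) (fun R => Model.growP R [[39], [40]] [0, 0, 1, 0, 1] 125 9) c23) ((m m0 h0).chain_cons [0, 1, 0, 0] (Model.via _ (mR m0 h0) (fun R => Model.fixP R [125, 254, 151, 240, 96, 147] [[41], [42]]) c20) (Model.via _ (mR m0 h0) (fun R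 => Model.growP R [[41], [42]] [0, 1, 0, 0] 145 8) c21) ((m m0 h0).chain_nil _))))))))
theorem ytop : gen (m m0 h0).g (Model.cgens ych) = ⊤ := (m m0 h0).chain_top (ych_ok m0 h0) (hc.trans (by decide +kernel))
theorem ybdd : (m m0 h0).Bdd := (m m0 h0).bdd_of_top (ytop m0 h0 hb hc)
theorem yot : (m m0 h0).OTOK yOT := ((m m0 h0).otok_cons (ych_ok m0 h0) (hc.trans (by decide +kernel)) 2 rfl (Model.via _ (mR m0 h0) (fun R => Model.invB R (Model.cgens (ych.drop 2)) yO0) c44) ((m m0 h0).otok_cons (ych_ok m0 h0) (hc.trans (by decide +kernel)) 1 rfl (Model.via _ (mR m0 h0) (fun R => Model.invB R (Model.cgens (ych.drop 1)) yO1) c43) ((m m0 h0).otok_cons (ych_ok m0 h0) (hc.trans (by decide +kernel)) 0 rfl (Model.via _ (mR m0 h0) (fun R => Model.invB R (Model.cgens (ych.drop 0)) yO2) c42) (m m0 h0).otok_nil)))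
theorem ycm : ∀ w ∈ yCg, (m m0 h0).Cm [[17]] (ev (m m0 h0).g w) := (m m0 h0).cm_of_pairs (all_take_done (all_take_step (all_take_zero _ (yCg.flatMap fun w => [[17]].map fun y => (w ++ y, y ++ w))) ((m m0 h0).pairs_of (base m0 h0 hb hc) (Model.via _ (mR m0 h0) (fun R => pairsB R [108, 4, 3, 2, 1, 0] (((yCg.flatMap fun w => [[17]].map fun y => (w ++ y, y ++ w)).drop 0).take 2)) c45))) (by decide +kernel))
theorem yn2 : (m m0 h0).Sol [[17]] yCg [145, 125, 254, 151, 240, 96, 147] [145, 125, 254, 151, 240, 96, 147] := (m m0 h0).sol_done [0, 1, 2, 3, 4, 5, 6] (((m m0 h0).chain_bot (ych_ok m0 h0) (hc.trans (by decide +kernel))).le.trans bot_le) (by decide +kernel)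
theorem yn1 : (m m0 h0).Sol [[17]] yCg [147] [147] := (m m0 h0).sol_free (ybdd m0 h0 hb hc) (ycm m0 h0 hb hc) (yot m0 h0 hb hc) ((m m0 h0).excl_zero _ _) (Model.via _ (mR m0 h0) (fun R => freeB R yOT [[17]] yCg [0] [147] [147] [] 96 0 [([], 96, 1)] [[0], [1]] [0, 1, 0, 0, 0, 0, 0, 0, 0, 0, 0] yc38) c38) ((m m0 h0).solL_leaves (yot m0 h0 hb hc) [0] (Bc := [145, 125, 254, 151, 240, 96]) (Model.via _ (mR m0 h0) (fun R => cycB R (subst [[17]] [0]) [145, 125, 254, 151, 240, 96]) c35) (Model.via _ (mR m0 h0) (fun R => allL (leafB R yOT (subst [[17]] [0]) [0, 1, 2, 3, 4, 5, 6] [145, 125, 254, 151, 240, 96] [147] [147]) yL37) c37) ((m m0 h0).solL_cons ((m m0 h0).sol_cyc [0] (Bc := [145, 125, 254, 151, 240, 96]) (T := [145, 125, 254, 151, 240, 96]) rfl (Model.via _ (mR m0 h0) (fun R => cycB R (subst [[17]] [0]) [145, 125, 254, 151, 240, 96]) c35) (Model.via _ (mR m0 h0) (fun R => cycB R (subst [[17]] [0])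 [145, 125, 254, 151, 240, 96]) c36) (yn2 m0 h0 hb hc)) (m m0 h0).solL_nil))
theorem yn0 : (m m0 h0).Sol [[17]] yCg [] [] := (m m0 h0).sol_free (ybdd m0 h0 hb hc) (ycm m0 h0 hb hc) (yot m0 h0 hb hc) ((m m0 h0).excl_mov (ybdd m0 h0 hb hc) [0] (Model.via _ (mR m0 h0) (fun R => exclB R (subst [[17]] [0]) 147 yD0) c40)) (Model.via _ (mR m0 h0) (fun R => freeB R yOT [[17]] yCg [] [] [] [] 147 yD0 [([], 147, 2)] [[0], [1]] [] yc41) c41) ((m m0 h0).solL_cons ((m m0 h0).sol_cyc [] (Bc := [147]) (T := [147]) rfl (Model.via _ (mR m0 h0) (fun R => cycB R (subst [[17]] []) [147]) c34) (Model.via _ (mR m0 h0) (fun R => cycB R (subst [[17]] []) [147]) c39) (yn1 m0 h0 hb hc)) (m m0 h0).solL_nil)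
theorem ysol : (m m0 h0).Sol [[17]] yCg [] [] := yn0 m0 h0 hb hc
theorem inj : Function.Injective (m m0 h0).φ := (m m0 h0).inj_of_base (base m0 h0 hb hc)
theorem gtop : gen (m m0 h0).g ([16, 17, 18].map fun x => [x]) = ⊤ :=
  top_of_marks ((m m0 h0).defsOK_g (inj m0 h0 hb hc) ((mR m0 h0).symm ▸ defs_ok)) _ (xtop m0 h0 hb hc) (by decide +kernel)
theorem cl : ∀ k ∈ Subgroup.centralizer {ev (m m0 h0).g [17]}, ∃ w ∈ CL, k = ev (m m0 h0).g w := fun k hk =>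
  list_closed (all_take_done (all_take_step (all_take_zero _ CE) ((m m0 h0).pairs_of (base m0 h0 hb hc) (Model.via _ (mR m0 h0) (fun R => pairsB R [108, 4, 3, 2, 1, 0] ((CE.drop 0).take 44)) c46))) (by decide +kernel)) (by decide +kernel) k ((m m0 h0).cent_le (ysol m0 h0 hb hc) hk)
theorem ocl : (m m0 h0).OutCl 16 17 18 [(1, [])] :=
  (m m0 h0).outCl (r := 23) (t := 2) (s := 11) (e := 1) (n := 1) (K := [1, 5]) (RL := RL) (EL := EL) hc (by decide +kernel) (by decide +kernel)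
    (all_take_done (all_take_step (all_take_zero _ (Model.outE 16 17 18 [17] 23 2 1 1 RL)) ((m m0 h0).pairs_of (base m0 h0 hb hc) (Model.via _ (mR m0 h0) (fun R => pairsB R [108, 4, 3, 2, 1, 0] (((Model.outE 16 17 18 [17] 23 2 1 1 RL).drop 0).take 7)) c47))) (by decide +kernel)) ((m m0 h0).ne_of_neB (Model.via _ (mR m0 h0) (fun R => neB R [16] [] 0 91 0) c48)) (xsol m0 h0 hb hc) (cl m0 h0 hb hc)
    (by decide +kernel) (by decide +kernel) (all_take_done (all_take_step (all_take_zero _ EL) (allL_spec (Model.via _ (mR m0 h0) (fun R => allL (elimB R 16 17 18 RL [(1, [])]) ((EL.drop 0).take 44)) c49))) (by decide +kernel))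
theorem out : Nat.card (Cfsg.Out G) = 1 := (m m0 h0).out_one (gtop m0 h0 hb hc) (ocl m0 h0 hb hc)
end H0.OCo3
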